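import Cfsg.Agent.H794.XZ.Rec
import Cfsg.Agent.H531.GU.Rea
import Cfsg.Agent.H521.GU.Compl

/-!
# S4791 + S4927, label route (helper794): the label of the trivial character

* `SS_row` : the Schur function of the tuple `row m n` is the complete symmetric function;
* `evR_hh` : the complete symmetric function of the unipotent power sums is the indicator function of degree `n`;
* `evR_row` : the value one on the types of degree `n`.
-/

set_option autoImplicit false

open scoped ComplexConjugate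

namespace Cfsg.Agent.H794.XZ

open Cfsg.Agent.H577.GLB.Std Cfsg.Agent.H614 Cfsg.Agent.H614.GLn Cfsg.Agent.H614.GLn.RSt
open Cfsg.Agent.H615.GU
open Cfsg.Agent.H531.GU

universe u v

section row

variable {A : Type*} [CommRing A] [Algebra ℂ A] (P : ℕ → A)

theorem row_zero (m : ℕ) : row m 0 = Cfsg.Agent.H76.GLB.idb m := by
  funext i
  rw [row, ite_self, add_zero]
  rfl

theorem SS_row {m : ℕ} (hm : 0 < m) (n : ℕ) : SS P n (row m n) = hh P n := by
  induction n using Nat.strong_induction_on with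
  | _ n ih =>
    rcases Nat.eq_zero_or_pos n with rfl | hn
    · rw [SS_zero_eq, row_zero, Cfsg.Agent.H76.GLB.vac_idb, Int.cast_one, one_smul, hh_zero]
    · have hn' : (n : ℂ) ≠ 0 := by exact_mod_cast hn.ne'
      apply smul_right_injective A hn'
      change (n : ℂ) • SS P n (row m n) = (n : ℂ) • hh P n
      rw [SS_rec, hh_rec]
      refine Finset.sum_congr rfl fun r hr => ?_
      rw [Finset.mem_Icc] at hr
      congr 1
      rw [Finset.sum_eq_single (⟨m - 1, by omega⟩ : Fin m)]
      · rw [if_pos, dn_row_last hm hr.2, ih (n - r) (by omega)]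
        rw [row, if_pos (by simp only; omega)]
        omega
      · intro j _ hj
        split_ifs with h
        · exact (SS_alt P (n - r)).eq_zero_of_not_injective two_torsion_alg
            (dn_row_not (by omega) (fun h1 => hj (Fin.ext (by simp only; omega))) h)
        · rfl
      · intro h
        exact absurd (Finset.mem_univ _) h

end row

section ev

variable {K : Type u} [Field K] [Finite K] (θ : K →*₀ ℂ) (Q : ℤ) (M : ℕ)

theorem dOrb_pos' (o : Orb K Q) : 0 < dOrb K Q o := by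
  unfold dOrb
  obtain ⟨x, hx⟩ := Quotient.exists_rep o
  have : Nonempty {x : Kˣ // (Quotient.mk (orbSetoid K Q) x) = o} := ⟨⟨x, hx⟩⟩
  exact Nat.card_pos

theorem thO_zero (k : ℕ) (o : Orb K Q) : thO θ Q M k 0 o = (dOrb K Q o : ℂ) := by
  have := Fintype.ofFinite {x : Kˣ // (Quotient.mk (orbSetoid K Q) x) = o}
  have h : expoZ Q M k 0 = 0 := by
    rw [expoZ]
    rcases Nat.eq_zero_or_pos M with rfl | hM
    · rw [Nat.cast_zero, Int.ediv_zero]
    · have := NeZero.mk hM.ne'
      rw [ZMod.val_zero, Nat.cast_zero, zero_mul, Int.zero_ediv]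
  unfold thO dOrb
  rw [h]
  simp only [zpow_zero]
  rw [finsum_eq_sum_of_fintype, Finset.sum_const, Finset.card_univ, nsmul_eq_mul, mul_one, Nat.card_eq_fintype_card]

/-- the operator of degree `n` -/
noncomputable def Un (n : ℕ) : Module.End ℂ (Ty (Orb K Q) → ℂ) := Eop (dOrb K Q) Q (fun _ => 1) n 0

theorem Wt_one {I : Type*} (v : I →₀ ℕ) : Wt (fun _ : I => (1 : Polynomial ℂ)) v = 1 := by
  unfold Wt
  simp

theorem PQ_eq (r : ℕ) : PQ (dOrb K Q) Q (fun _ => 1) r 0 = Pop θ Q M r 0 := by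
  classical
  rcases Nat.eq_zero_or_pos r with rfl | hr
  · rw [PQ_zero, Pop_eq]
    symm
    refine Finset.sum_eq_zero fun o _ => ?_
    rw [if_neg (fun h => lt_irrefl _ h.1)]
  · rw [Pop_eq]
    unfold PQ
    refine Finset.sum_congr rfl fun o _ => ?_
    by_cases h : dOrb K Q o ∣ r
    · rw [if_pos h, if_pos ⟨hr, h⟩, thO_zero, one_pow, Polynomial.coeff_one_zero, mul_one]
    · rw [if_neg h, if_neg (fun h' => h h'.2)]

theorem Un_rec (n : ℕ) : (n : ℂ) • Un Q n = ∑ r ∈ Finset.Icc 1 n, Pop θ Q M r 0 * (Un Q (n - r) : Module.End ℂ (Ty (Orb K Q) → ℂ)) := by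
  classical
  have h := Eop_rec (dOrb K Q) Q (fun _ => (1 : Polynomial ℂ)) (fun o => dOrb_pos' Q o) n 0
  rw [← Nat.cast_smul_eq_nsmul ℂ] at h
  change (n : ℂ) • Eop (dOrb K Q) Q (fun _ => 1) n 0 = _
  rw [h, Finset.range_eq_Ico, Finset.sum_eq_sum_Ico_succ_bot (Nat.succ_pos n)]
  have h1 : ∀ r, ∑ y ∈ Finset.HasAntidiagonal.antidiagonal 0, PQ (dOrb K Q) Q (fun _ => 1) r y.1 *
      Eop (dOrb K Q) Q (fun _ => 1) (n - r) y.2 = Pop θ Q M r 0 * (Un Q (n - r) : Module.End ℂ (Ty (Orb K Q) → ℂ)) := by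
    intro r
    rw [show Finset.HasAntidiagonal.antidiagonal (0 : ℕ) = {(0, 0)} from rfl, Finset.sum_singleton, PQ_eq θ Q M]
    rfl
  simp only [h1]
  have h2 : Pop θ Q M 0 0 = 0 := by
    rw [← PQ_eq, PQ_zero]
  rw [h2, zero_mul, zero_add]
  refine Finset.sum_congr ?_ fun _ _ => rfl
  ext r
  simp only [Finset.mem_Ico, Finset.mem_Icc]
  omega

variable {M} [NeZero M]

theorem evR_hh (hQ : IsUnit (Q : ZMod M)) (n : ℕ) :
    H615.GU.evR θ Q M (hh (fun j => Pw Q M j (0 : ZMod M)) n) = Un Q n vac := by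
  classical
  induction n using Nat.strong_induction_on with
  | _ n ih =>
    rcases Nat.eq_zero_or_pos n with rfl | hn
    · rw [hh_zero, evR_one, Un, Eop_zero (dOrb K Q) Q _ (fun o => dOrb_pos' Q o), if_pos rfl, Module.End.one_apply]
    · have hn' : (n : ℂ) ≠ 0 := by exact_mod_cast hn.ne'
      apply smul_right_injective _ hn'
      change (n : ℂ) • H615.GU.evR θ Q M (hh (fun j => Pw Q M j (0 : ZMod M)) n) = (n : ℂ) • Un Q n vac
      rw [← map_smul, hh_rec, map_sum, ← LinearMap.smul_apply, Un_rec θ Q M, LinearMap.sum_apply]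
      refine Finset.sum_congr rfl fun r hr => ?_
      rw [Finset.mem_Icc] at hr
      rw [Pw_zero_eq hQ (by omega), Cfsg.Agent.H531.GU.evR_X_mul θ Q M Cfsg.Agent.H521.GU.i2s, ih (n - r) (by omega),
        Module.End.mul_apply]

omit [Finite K] [NeZero M] in
theorem Un_vac {n : ℕ} (lam : Ty (Orb K Q)) (h : tdeg (dOrb K Q) lam = n) : Un Q n vac lam = 1 := by
  classical
  unfold Un Eop
  rw [UF_apply, Finset.sum_eq_single 0]
  · have h1 : (vac : Ty (Orb K Q) → ℂ) 0 = 1 := if_pos rfl
    have h2 : Ng (dOrb K Q) Q lam 0 = 1 := by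
      unfold Ng
      rw [Finsupp.support_zero, Finset.prod_empty]
    have h3 : sz (0 : Ty (Orb K Q)) = 0 := by
      ext i
      rfl
    rw [h1, h2, h3, tsub_zero, vdeg_sz, if_pos h, Wt_one, Polynomial.coeff_one_zero, mul_one, mul_one]
  · intro k _ hk
    have h1 : (vac : Ty (Orb K Q) → ℂ) k = 0 := if_neg hk
    rw [h1, mul_zero]
  · intro h0
    exfalso
    apply h0
    rw [mem_tbelow]
    intro i
    exact Cfsg.Agent.H315.GU.zero_le_col _

/-- the label of the trivial character -/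
theorem evR_row (hQ : IsUnit (Q : ZMod M)) {m n : ℕ} (hm : 0 < m) (lam : Ty (Orb K Q)) (h : tdeg (dOrb K Q) lam = n) :
    H615.GU.evR θ Q M (S0 Q M n (row m n)) lam = 1 := by
  rw [S0, SS_row _ hm, evR_hh θ Q hQ, Un_vac Q lam h]

end ev

end Cfsg.Agent.H794.XZ
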