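import Cfsg.Agent.H794.XZ.Main
import Cfsg.Agent.H794.XZ.Row
import Cfsg.Agent.H139.XZ.Fam
import Cfsg.Agent.H623.XZ.GeoG
import Cfsg.Agent.H623.GU.GeoAll
import Cfsg.Agent.H120.GLB.Ctx

/-!
# S4791 + S4927, label route (helper794): `x0 ≥ p + 1`

* `x0_tow` : for a tower with `e = ord_p(Q) ≥ 2` and `n ≥ 2 e` : `p + 1 ≤ x0 p 𝔐 (G n)`;
* `x0_gl_ge`, `x0_gu_ge` : the groups `GL_n(F)`, `GU_n(q)`.
-/

set_option autoImplicit false

open Cfsg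
open scoped ComplexConjugate TensorProduct MatrixGroups

namespace Cfsg.Agent.H794.XZ

open Cfsg.Agent.Blocks Cfsg.Agent.Blocks.Basic Cfsg.Agent.Characters
open Cfsg.Agent.Blocks.Local
open Cfsg.Agent.H577.GLB.Std
open Cfsg.Agent.H623.GU
open Cfsg.Agent.H112.GLB Cfsg.Agent.H615.GU
open Cfsg.Agent.H674.XZ

universe u v w

section tow

variable {K : Type u} [Field K] {θ : K →*₀ ℂ} {Q : ℤ} {M : ℕ} [NeZero M] {N p : ℕ} {G : ℕ → Type u} [∀ n, Group (G n)]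
    [∀ n, Finite (G n)] {𝔐 : Ideal AlgInt}

/-- the label of the trivial character -/
theorem om_row (ctx : CtxQ θ Q M N) (t : Tow θ Q M N p G) {n m : ℕ} (hn : n ≤ N) (hm : 0 < m) :
    (t.R n hn).om (S0 Q M n (row m n)) = fun _ => 1 := by
  funext g
  rw [t.R_om hn]
  have := ctx.finK
  exact evR_row θ Q ctx.unit hm _ ((t.T n hn).deg g)

/-- **the members of `X₀`** -/
theorem x0_tow (h𝔐 : IsPModular p 𝔐) (ctx : CtxQ θ Q M N) (hQp : IsUnit (Q : ZMod p))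
    (t : Tow θ Q M N p G) (hgeo : Geo t.R) {n : ℕ} (hn : n ≤ N) (h2 : 2 ≤ orderOf (Q : ZMod p))
    (hn2 : 2 * orderOf (Q : ZMod p) ≤ n) : p + 1 ≤ x0 p 𝔐 (G n) := by
  have hpM : p ∣ M := by
    have h1 := ctx.dvd (orderOf (Q : ZMod p)) (by omega) (by omega)
    have h3 : (p : ℤ) ∣ Q ^ orderOf (Q : ZMod p) - 1 := by
      rw [← ZMod.intCast_zmod_eq_zero_iff_dvd]
      push_cast
      rw [pow_orderOf_eq_one, sub_self]
    exact_mod_cast h3.trans h1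
  have htriv : ∀ (n m : ℕ) (hn : n ≤ N), 0 < m → (t.R n hn).om (S0 Q M n (row m n)) = fun _ => 1 :=
    fun n m hn hm => om_row ctx t hn hm
  have hp : p.Prime := h𝔐.1
  have := isPrime_of_isPModular h𝔐
  have H : H139.XZ.FHyp Q M p N 𝔐 (fun n hn => FN t.R 𝔐 n hn) :=
    { tau := fun n hn x hx => FN_tau hn hx
      step := fun m n l hn hl hnl hm x hx => FN_rec ctx.unit t.bij hgeo h𝔐 (by omega) htriv hn hl hnl hm hx
      one := fun s m hs hm => FN_row h𝔐 hs (htriv s m hs hm) }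
  obtain ⟨e, he⟩ : ∃ e, e = orderOf (Q : ZMod p) := ⟨_, rfl⟩
  rw [← he] at h2 hn2
  have hw : 2 ≤ n / e := (Nat.le_div_iff_mul_le (by omega)).2 hn2
  obtain ⟨T, hT, hJ⟩ := H139.XZ.exists_family (m := n) hp h𝔐 ctx.unit hQp hpM H he h2 (Nat.mod_lt n (by omega)) hw hn
    (Nat.div_add_mod n e).symm le_rfl
  exact le_x0_of_family h𝔐 ctx t hn le_rfl T hT (fun i => (hJ i).1) (fun i => (hJ i).2)

end tow

section groups

variable {F : Type u} [Field F] [Fintype F] {p : ℕ} {𝔐 : Ideal AlgInt}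

/-- **`GL_n(F)`** -/
theorem x0_gl_ge (h𝔐 : IsPModular p 𝔐) (hpF : (p : F) ≠ 0) {n : ℕ}
    (h2 : 2 ≤ orderOf ((Fintype.card F : ℕ) : ZMod p)) (hn : 2 * orderOf ((Fintype.card F : ℕ) : ZMod p) ≤ n) :
    p + 1 ≤ x0 p 𝔐 (GL (Fin n) F) := by
  have hp : p.Prime := h𝔐.1
  obtain ⟨K, _, _, θ, M, _, C⟩ := Cfsg.Agent.H120.GLB.Ctx.exists_ctx F n
  have ctx : CtxQ θ (Fintype.card F : ℤ) M n := by
    have := H614.GU.ctxQ_card C
    rwa [Nat.card_eq_fintype_card] at this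
  obtain ⟨t, ht⟩ := H941.GU.towG (p := p) ctx C hp hpF
  have hQp : IsUnit (((Fintype.card F : ℕ) : ℤ) : ZMod p) := Cfsg.Agent.H623.XZ.isUnit_card hp hpF
  exact x0_tow h𝔐 ctx hQp t (Cfsg.Agent.H623.XZ.geo_gl hp C hpF t ht) le_rfl
    (by rw [Int.cast_natCast]; exact h2) (by rw [Int.cast_natCast]; exact hn)

/-- **`GU_n(q)`** -/
theorem x0_gu_ge (h𝔐 : IsPModular p 𝔐) {q : ℕ} (hF : Fintype.card F = q ^ 2)
    (hpF : (p : F) ≠ 0) {n : ℕ} (h2 : 2 ≤ orderOf ((-(q : ℤ) : ℤ) : ZMod p))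
    (hn : 2 * orderOf ((-(q : ℤ) : ℤ) : ZMod p) ≤ n) : p + 1 ≤ x0 p 𝔐 (GU n F q) := by
  have hp : p.Prime := h𝔐.1
  have := isPrime_of_isPModular h𝔐
  obtain ⟨K, _, _, θ, M, _, C⟩ := Cfsg.Agent.H120.GLB.Ctx.exists_ctx F n
  have ctx : CtxQ θ (-(q : ℤ)) M n := H614.GU.ctxQ_of_ctx C (by rw [Nat.card_eq_fintype_card]; exact hF)
  obtain ⟨t, ht⟩ := H941.GU.towU (p := p) hF ctx C hp hpF
  have ha : TorZ (-(q : ℤ)) M 1 0 := mul_zero _
  have hap : PReg M p 0 := by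
    rw [PReg, addOrderOf_zero]
    exact Nat.coprime_one_left p
  exact x0_tow (G := fun n => GU n F q) h𝔐 ctx (isUnit_neg_q hF hp hpF) t (geoAll_gu h𝔐 C hF hpF t ht ha hap).geo
    le_rfl h2 hn

end groups

end Cfsg.Agent.H794.XZ
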