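import Cfsg.Agent.H794.XZ.Fun
import Cfsg.Agent.H623.GU.Red
import Cfsg.Agent.CharactersDeep.ModCongr

/-!
# S4791 + S4927, label route (helper794): the recursion

`G n` finite groups with realizations `R n`, `n ≤ N`, `F n x = FB p 𝔐 (G n) ((R n).om x)`, `e = ord_p(Q)`.

* `FB_val` : the value of the functional at `c ↦ om x (u c)`;
* `exists_kap` : `F n x ≡ κ F (n - e) (∂ x)` for a unipotent Schur function `x`, `∂` the derivative with respect to the
  variable `(e, 0)`.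
-/

set_option autoImplicit false

open Cfsg
open scoped ComplexConjugate TensorProduct

namespace Cfsg.Agent.H794.XZ

open Cfsg.Agent.Blocks Cfsg.Agent.Blocks.Basic Cfsg.Agent.Characters Cfsg.Agent.H76.GLB
open Cfsg.Agent.Blocks.PrincipalSection Cfsg.Agent.Blocks.Local
open Cfsg.Agent.H577.GLB.Std Cfsg.Agent.H614 Cfsg.Agent.H614.GLn Cfsg.Agent.H614.GLn.RSt Cfsg.Agent.H623.GLn
open Cfsg.Agent.H623.GU hiding section_pairing pairing_ne_zero
open Cfsg.Agent.H577.GLB.Real (coP PhiF PGen frm)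
open Cfsg.Agent.H112.GLB Cfsg.Agent.H608.BlockRank

universe u v w

section val

variable {Q : ℤ} {M : ℕ} [NeZero M] {p n k l f : ℕ} {𝔐 : Ideal AlgInt} {G : Type u} [Group G] [Finite G]
  {X₁ : Type v} [Group X₁] [Finite X₁] {X₂ : Type w} [Group X₂] [Finite X₂]
  {R : Rz Q M p n G} {R₁ : Rz (Q ^ f) M p k X₁} {R₂ : Rz Q M p l X₂}

/-- the value of the functional at `c ↦ om x (u c)` -/
theorem FB_val (h𝔐 : IsPModular p 𝔐) {j : X₁ × X₂ →* G} (hj : Function.Injective j)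
    {H : Subgroup G} (hH : j.range = H) {u : G} (hval : Val R R₁ R₂ j u) {x : RS M}
    (hx : x ∈ PGen Q M p) :
    FB p 𝔐 H (fun c : H => R.om x (u * (c : G))) = LinearMap.mul' ℂ ℂ (TensorProduct.map
      (FB p 𝔐 X₁ ∘ₗ R₁.om ∘ₗ (PhiF Q M f).toLinearMap) (FB p 𝔐 X₂ ∘ₗ R₂.om) (coP M x)) := by
  have hp : p.Prime := h𝔐.1
  have : Fact p.Prime := ⟨hp⟩
  have := Fintype.ofFinite X₁
  have := Fintype.ofFinite X₂
  have := Fintype.ofFinite H
  rw [FB_apply]
  refine classInner_prod hp (prodE hj hH) (fun c : H => R.om x (u * (c : G))) (rho 𝔐 H) (rho 𝔐 X₁) (rho 𝔐 X₂)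
    (fun x => rho_prod h𝔐 hj hH x _ (coe_prodE hj hH x).symm) (fun A => evR R₁ A ∘ₗ (PhiF Q M f).toLinearMap)
    (fun B => evR R₂ B) (coP M x) ?_ _ _ (fun a => ?_) (fun a => ?_)
  · rintro ⟨A, B⟩ hA hB
    change R.om x (u * ((prodE hj hH (A, B) : H) : G)) = _
    rw [coe_prodE]
    exact hval x hx A B hA hB
  · exact FB_apply (R₁.om (PhiF Q M f a))
  · exact FB_apply (R₂.om a)

end val

section one

variable {Q : ℤ} {M : ℕ} [NeZero M] {p : ℕ} {X₁ : Type v} [Group X₁] [Finite X₁] {R₁ : Rz Q M p 1 X₁}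

omit [Finite X₁] in
open MvPolynomial in
/-- monomials with genuine variables -/
theorem om_mul_X (h : Gr R₁) {b : RS M} (hb : b ∈ GenR Q M) {v : Var M} (hv : 0 < v.1) :
    R₁.om (b * X v) = constantCoeff b • R₁.om (X v) := by
  classical
  have h1 := support_sum_monomial_coeff b
  have h2 : R₁.om (b * X v) = ∑ m ∈ b.support, R₁.om (monomial m (coeff m b) * X v) := by
    conv_lhs => rw [← h1]
    rw [Finset.sum_mul, map_sum]
  have h3 : ∀ m ∈ b.support, m ≠ 0 → R₁.om (monomial m (coeff m b) * X v) = 0 := by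
    intro m hm hm0
    rw [X, monomial_mul, mul_one]
    refine h _ _ ?_
    rw [map_add]
    obtain ⟨v', hv'⟩ : ∃ v', v' ∈ m.support := Finset.nonempty_iff_ne_empty.2 (fun h => hm0 (Finsupp.support_eq_empty.1 h))
    have h4 := (genVar_of_mem_genR hb hm v' hv').1
    have h5 : v'.1 ≤ Finsupp.weight (fun v : Var M => v.1) m := by
      rw [Finsupp.weight_apply, Finsupp.sum]
      refine le_trans ?_ (Finset.single_le_sum (f := fun a => m a • a.1) (fun _ _ => Nat.zero_le _) hv')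
      exact Nat.le_mul_of_pos_left _ (Nat.pos_of_ne_zero (Finsupp.mem_support_iff.1 hv'))
    have h6 : Finsupp.weight (fun v : Var M => v.1) (Finsupp.single v 1) = v.1 := by
      rw [Finsupp.weight_single, one_smul]
    rw [h6]
    omega
  rw [h2]
  by_cases h0 : (0 : Var M →₀ ℕ) ∈ b.support
  · rw [Finset.sum_eq_single_of_mem 0 h0 fun m hm hm0 => h3 m hm hm0, ← C_apply, ← smul_eq_C_mul, map_smul]
    rfl
  · rw [Finset.sum_eq_zero fun m hm => h3 m hm (fun h => h0 (h ▸ hm))]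
    have h4 : constantCoeff b = 0 := by
      rw [constantCoeff_eq]
      exact notMem_support_iff.1 h0
    rw [h4, zero_smul]

omit [Finite X₁] in
open MvPolynomial in
theorem om_rv_ne (h : Gr R₁) {k : ℕ} (hk : k ≠ 1) (c : ZMod M) : R₁.om (rv Q M k c) = 0 := by
  unfold rv
  split_ifs
  · refine h _ _ ?_
    rw [Finsupp.weight_single, one_smul]
    exact hk
  · exact map_zero _

omit [Finite X₁] in
open MvPolynomial in
theorem om_mul_rv (h : Gr R₁) {b : RS M} (hb : b ∈ GenR Q M) (k : ℕ) (c : ZMod M) :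
    R₁.om (b * rv Q M k c) = constantCoeff b • R₁.om (rv Q M k c) := by
  unfold rv
  split_ifs with h1
  · exact om_mul_X h hb h1.1
  · rw [mul_zero, map_zero, smul_zero]

omit [Finite X₁] in
open MvPolynomial in
theorem om_one (h : Gr R₁) : R₁.om 1 = 0 := by
  refine h 0 1 ?_
  rw [map_zero]
  exact zero_ne_one

end one

section der

variable {Q : ℤ} {M : ℕ} [NeZero M] {p f : ℕ} {X₁ : Type v} [Group X₁] [Finite X₁] {R₁ : Rz (Q ^ f) M p 1 X₁}

/-- the unipotent part of the ring -/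
noncomputable def U0 (Q : ℤ) (M : ℕ) : Subalgebra ℂ (RS M) := Algebra.adjoin ℂ (Set.range fun j : ℕ => Pw Q M j (0 : ZMod M))

theorem canon_zero' : canon Q M 0 = 0 := by
  obtain ⟨j, hj⟩ := sameZ_canon (Q := Q) (0 : ZMod M)
  rw [hj, mul_zero]

theorem zero_mem_repsZ : (0 : ZMod M) ∈ repsZ Q M := mem_repsZ.2 canon_zero'

omit [NeZero M] in
theorem perZ_zero' : perZ Q M 0 = 1 := by
  rw [perZ, Function.minimalPeriod_eq_one_iff_isFixedPt]
  exact mul_zero _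

omit [NeZero M] in
theorem U0_le (p : ℕ) : U0 Q M ≤ PGen Q M p := by
  refine Algebra.adjoin_mono ?_
  rintro _ ⟨j, rfl⟩
  refine ⟨j * perZ Q M 0, 0, ?_, rfl⟩
  rw [PReg, addOrderOf_zero]
  exact Nat.coprime_one_left p

omit [NeZero M] in
theorem SS_mem_U0 {m : ℕ} (k : ℕ) (β : Fin m → ℕ) : SS (fun j => Pw Q M j (0 : ZMod M)) k β ∈ U0 Q M := by
  unfold SS ZV
  refine Subalgebra.sum_mem _ fun ν _ => Subalgebra.smul_mem _ (Subalgebra.smul_mem _ (Subalgebra.multiset_prod_mem _ ?_) _) _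
  intro x hx
  obtain ⟨j, -, rfl⟩ := Multiset.mem_map.1 hx
  exact Algebra.subset_adjoin ⟨j, rfl⟩

omit [NeZero M] in
theorem Pw_mem_U0 (j : ℕ) : Pw Q M j (0 : ZMod M) ∈ U0 Q M := Algebra.subset_adjoin ⟨j, rfl⟩

open MvPolynomial in
theorem Pw_zero_eq (hQ : IsUnit (Q : ZMod M)) {j : ℕ} (hj : 0 < j) : Pw Q M j (0 : ZMod M) = X (j, 0) := by
  rw [Pw_eq hQ zero_mem_repsZ hj, perZ_zero', mul_one]

/-- the constant -/
noncomputable def kap (𝔐 : Ideal AlgInt) (R₁ : Rz (Q ^ f) M p 1 X₁) : ℂ :=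
  FB p 𝔐 X₁ (R₁.om (PhiF Q M f (MvPolynomial.X (f, 0))))

open MvPolynomial in
/-- contraction with the functional of a realization of degree one -/
theorem contract (h : Gr R₁) (hQ : IsUnit (Q : ZMod M)) (hf : 0 < f) (𝔐 : Ideal AlgInt) (μ : RS M →ₗ[ℂ] ℂ) {x : RS M}
    (hx : x ∈ U0 Q M) :
    LinearMap.mul' ℂ ℂ (TensorProduct.map (FB p 𝔐 X₁ ∘ₗ R₁.om ∘ₗ (PhiF Q M f).toLinearMap) μ (coP M x)) =
      kap 𝔐 R₁ * μ (pderiv (f, 0) x) := by
  classical
  have h1 : (FB p 𝔐 X₁ ∘ₗ R₁.om ∘ₗ (PhiF Q M f).toLinearMap) 1 = 0 := by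
    change FB p 𝔐 X₁ (R₁.om (PhiF Q M f 1)) = 0
    rw [map_one, om_one h, map_zero]
  have h2 : ∀ (a : RS M) (v : Var M), (FB p 𝔐 X₁ ∘ₗ R₁.om ∘ₗ (PhiF Q M f).toLinearMap) (a * X v) =
      constantCoeff a * (FB p 𝔐 X₁ ∘ₗ R₁.om ∘ₗ (PhiF Q M f).toLinearMap) (X v) := by
    intro a v
    have h3 : R₁.om (PhiF Q M f a * PhiF Q M f (X v)) = constantCoeff (PhiF Q M f a) • R₁.om (PhiF Q M f (X v)) := by
      obtain ⟨b, hb⟩ : ∃ b, b = PhiF Q M f a := ⟨_, rfl⟩
      have hb' : b ∈ GenR (Q ^ f) M := hb ▸ PhiF_mem_genR f a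
      rw [← hb, PhiF, aeval_X]
      split_ifs with h3
      · rw [Finset.mul_sum, map_sum, map_sum, Finset.smul_sum]
        exact Finset.sum_congr rfl fun i _ => om_mul_rv h hb' _ _
      · rw [mul_zero, map_zero, smul_zero]
    change FB p 𝔐 X₁ (R₁.om (PhiF Q M f (a * X v))) = constantCoeff a * FB p 𝔐 X₁ (R₁.om (PhiF Q M f (X v)))
    rw [map_mul, h3, map_smul, constantCoeff_PhiF, smul_eq_mul]
  rw [tensor_der h1 h2]
  have h3 : mkDerivation ℂ (fun v : Var M => (C ((FB p 𝔐 X₁ ∘ₗ R₁.om ∘ₗ (PhiF Q M f).toLinearMap) (X v)) : RS M)) x =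
      (kap 𝔐 R₁ • pderiv (R := ℂ) (f, (0 : ZMod M))) x := by
    refine Derivation.eqOn_adjoin (R := ℂ) (s := Set.range fun j : ℕ => Pw Q M j (0 : ZMod M)) ?_ hx
    rintro _ ⟨j, rfl⟩
    rcases Nat.eq_zero_or_pos j with rfl | hj
    · dsimp only
      rw [Pw, rv, if_neg (by simp), map_zero, map_zero]
    · dsimp only
      rw [Pw_zero_eq hQ hj, mkDerivation_X, Derivation.smul_apply, pderiv_X]
      by_cases hjf : j = f
      · subst hjf
        rw [Pi.single_eq_same, smul_eq_C_mul, mul_one]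
        rfl
      · rw [Pi.single_eq_of_ne (fun h' => hjf (Prod.ext_iff.1 h').1), smul_zero]
        have h4 : (FB p 𝔐 X₁ ∘ₗ R₁.om ∘ₗ (PhiF Q M f).toLinearMap) (X (j, 0)) = 0 := by
          change FB p 𝔐 X₁ (R₁.om (PhiF Q M f (X (j, 0)))) = 0
          rw [PhiF, aeval_X]
          split_ifs with h5
          · rw [map_sum, Finset.sum_eq_zero, map_zero]
            intro i _
            refine om_rv_ne h ?_ _
            intro h6
            exact hjf (by simpa using (Nat.div_eq_iff_eq_mul_left hf h5).1 h6)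
          · rw [map_zero, map_zero]
        rw [h4, map_zero]
  rw [h3, Derivation.smul_apply, map_smul, smul_eq_mul]

end der

section row

/-- the tuple of the partition `(n)` -/
def row (m n : ℕ) : Fin m → ℕ := fun i => (i : ℕ) + if (i : ℕ) + 1 = m then n else 0

theorem sum_row {m : ℕ} (hm : 0 < m) (n : ℕ) : ∑ i, row m n i = n + ∑ i : Fin m, (i : ℕ) := by
  unfold row
  rw [Finset.sum_add_distrib, add_comm]
  congr 1
  rw [Finset.sum_eq_single (⟨m - 1, by omega⟩ : Fin m)]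
  · rw [if_pos (by simp only; omega)]
  · intro b _ hb
    rw [if_neg]
    intro h
    apply hb
    apply Fin.ext
    simp only
    omega
  · intro h
    exact absurd (Finset.mem_univ _) h

theorem dn_row_last {m n e : ℕ} (hm : 0 < m) (he : e ≤ n) : dn (row m n) ⟨m - 1, by omega⟩ e = row m (n - e) := by
  funext i
  by_cases hi : i = ⟨m - 1, by omega⟩
  · subst hi
    rw [dn_self, row, row]
    simp only
    rw [if_pos (by omega), if_pos (by omega)]
    omega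
  · have h1 : ¬ (i : ℕ) + 1 = m := fun h => hi (Fin.ext (by simp only; omega))
    rw [dn_ne _ _ hi, row, row, if_neg h1, if_neg h1]

theorem dn_row_not {m n e : ℕ} (he : 0 < e) {j : Fin m} (hj : (j : ℕ) + 1 ≠ m) (hej : e ≤ row m n j) :
    ¬ Function.Injective (dn (row m n) j e) := by
  intro h
  have h1 : row m n j = j := by rw [row, if_neg hj, add_zero]
  rw [h1] at hej
  have h2 : (⟨(j : ℕ) - e, by omega⟩ : Fin m) ≠ j := fun h2 => by
    have := congrArg Fin.val h2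
    simp only at this
    omega
  apply h2
  apply h
  rw [dn_ne _ _ h2, dn_self, h1, row]
  simp only
  rw [if_neg (by omega), add_zero]

end row

section chain

variable {Q : ℤ} {M : ℕ} [NeZero M] {p N : ℕ} {𝔐 : Ideal AlgInt} {G : ℕ → Type u} [∀ n, Group (G n)] [∀ n, Finite (G n)]
  {R : ∀ n, n ≤ N → Rz Q M p n (G n)}

/-- the functional -/
noncomputable def FN (R : ∀ n, n ≤ N → Rz Q M p n (G n)) (𝔐 : Ideal AlgInt) (n : ℕ) (hn : n ≤ N) : RS M →ₗ[ℂ] ℂ :=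
  FB p 𝔐 (G n) ∘ₗ (R n hn).om

theorem FN_apply (n : ℕ) (hn : n ≤ N) (x : RS M) : FN R 𝔐 n hn x = FB p 𝔐 (G n) ((R n hn).om x) := rfl

/-- **(H1)** -/
theorem FN_tau {n : ℕ} (hn : n ≤ N) {x : RS M} (hx : x ∈ Hom Q M n) : FN R 𝔐 n hn (tauP Q M p x) = FN R 𝔐 n hn x := by
  rw [FN_apply, FN_apply, (R n hn).tau _ hx]
  refine FB_congr fun g hg => ?_
  rw [pReg_eq]
  exact if_pos hg

/-- the unipotent Schur function -/
noncomputable abbrev S0 (Q : ℤ) (M : ℕ) [NeZero M] {m : ℕ} (n : ℕ) (β : Fin m → ℕ) : RS M :=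
  SS (fun j => Pw Q M j (0 : ZMod M)) n β

omit [∀ n, Finite (G n)] in
theorem exists_irr (hQ : IsUnit (Q : ZMod M)) (hbij : ∀ (n m : ℕ) (hn : n ≤ N), n ≤ m → (R n hn).Bij m) {m n : ℕ}
    (hn : n ≤ N) (hm : n ≤ m) {β : Fin m → ℕ} (hs : ∑ i, β i = n + ∑ i : Fin m, (i : ℕ)) (hβ : Function.Injective β) :
    ∃ (χ : IrrCharacter (G n)) (s : ℤˣ), (R n hn).om (S0 Q M n β) = ((s : ℤ) : ℂ) • (χ : G n → ℂ) := by
  obtain ⟨σ, hσ⟩ := exists_sort hβ
  have hb : H577.GLB.Std.bsz (β ∘ σ) = n := by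
    unfold H577.GLB.Std.bsz
    have h1 : ∑ i, (β ∘ σ) i = ∑ i, β i := Equiv.sum_comp σ β
    rw [h1, hs]
    omega
  let L : LabZ Q M m n := ⟨(mkL hQ 0 (β ∘ σ) hσ hb).t, (mkL hQ 0 (β ∘ σ) hσ hb).mono, (mkL hQ 0 (β ∘ σ) hσ hb).orb, by
    rw [(mkL hQ 0 (β ∘ σ) hσ hb).sum, perZ_zero', one_mul]⟩
  obtain ⟨χ, ⟨s, hs⟩, -⟩ := (hbij n m hn hm).2 L
  have h1 : SchP Q M L.t = S0 Q M n (β ∘ σ) := by
    change SchP Q M (mkL hQ 0 (β ∘ σ) hσ hb).t = _
    rw [SchP_mkL, canon_zero']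
  have h2 : S0 Q M n (β ∘ σ) = sg σ • S0 Q M n β := SS_alt _ n σ β
  rw [h1, h2, map_zsmul] at hs
  rcases Int.isUnit_iff.1 (show IsUnit (sg σ) from (Equiv.Perm.sign σ).isUnit) with h3 | h3
  · rw [h3, one_smul] at hs
    exact ⟨χ, s, hs⟩
  · rw [h3, neg_smul, one_smul] at hs
    refine ⟨χ, -s, ?_⟩
    rw [← neg_neg ((R n hn).om (S0 Q M n β)), hs, Units.val_neg, Int.cast_neg, neg_smul]

open MvPolynomial in
theorem exists_kap (hQ : IsUnit (Q : ZMod M)) (hbij : ∀ (n m : ℕ) (hn : n ≤ N), n ≤ m → (R n hn).Bij m)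
    (hgeo : Geo R) (h𝔐 : IsPModular p 𝔐) (he : 0 < orderOf (Q : ZMod p)) {n l : ℕ} (hn : n ≤ N) (hl : l ≤ N)
    (hnl : l + orderOf (Q : ZMod p) = n) :
    ∃ κ : ℂ, ∀ {m : ℕ} (_ : n ≤ m) (β : Fin m → ℕ), ∑ i, β i = n + ∑ i : Fin m, (i : ℕ) →
      MemLocalIdeal 𝔐 (FN R 𝔐 n hn (S0 Q M n β) - κ * FN R 𝔐 l hl (pderiv (orderOf (Q : ZMod p), 0) (S0 Q M n β))) := by
  classical
  have hp : p.Prime := h𝔐.1
  have : Fact p.Prime := ⟨hp⟩
  have := isPrime_of_isPModular h𝔐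
  obtain ⟨X₁, i1, i2, R₁, j, u, c, hR₁, hb₁, hj, hu, hcent, hval, hc, hcc⟩ := hgeo 0 (orderOf (Q : ZMod p)) 1 l n hl hn
    (by rw [pow_zero, mul_one]) he one_pos (fun h => hp.one_lt.ne' (Nat.dvd_one.1 h)) (by rw [mul_one]; exact hnl)
  refine ⟨kap 𝔐 R₁, fun {m} hm β hs => ?_⟩
  by_cases hβ : Function.Injective β
  · obtain ⟨χ, s, hs⟩ := exists_irr hQ hbij hn hm hs hβ
    have h1 := FB_val h𝔐 hj hcent hval (U0_le p (SS_mem_U0 n β))
    rw [contract hR₁ hQ he 𝔐 _ (SS_mem_U0 n β)] at h1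
    have h2 : (fun c : Subgroup.centralizer ({u} : Set (G n)) => (R n hn).om (S0 Q M n β) (u * (c : G n))) =
        ((s : ℤ) : ℂ) • (fun c : Subgroup.centralizer ({u} : Set (G n)) => (χ : G n → ℂ) (u * (c : G n))) := by
      funext c
      rw [hs]
      rfl
    rw [h2, map_smul, FB_section h𝔐 hu rfl χ] at h1
    have h3 : FN R 𝔐 n hn (S0 Q M n β) = ((s : ℤ) : ℂ) • (if χ ∈ principalBlock 𝔐 (G n) then (χ : G n → ℂ) 1 else 0) := by
      rw [FN_apply, hs, map_smul, FB_irr h𝔐]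
    have h4 : kap 𝔐 R₁ * FN R 𝔐 l hl (pderiv (orderOf (Q : ZMod p), 0) (S0 Q M n β)) =
        ((s : ℤ) : ℂ) • (if χ ∈ principalBlock 𝔐 (G n) then (χ : G n → ℂ) u else 0) := h1.symm
    rw [h3, h4, ← smul_sub, smul_eq_mul]
    refine memLocalIdeal_mul_left (memLocalRing_intCast _) ?_
    split_ifs
    · have h5 := Cfsg.Agent.CharactersDeep.ModCongr.memLocalIdeal_character_sub h𝔐 χ.2 u u
        ⟨1, by rw [mul_one], Commute.one_right u, hu, by
          rw [orderOf_one]; exact fun h => hp.one_lt.ne' (Nat.dvd_one.1 h)⟩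
      rw [inv_mul_cancel] at h5
      exact memLocalIdeal_sub_comm h5
    · rw [sub_zero]
      exact memLocalIdeal_zero
  · have h0 : S0 Q M n β = 0 := SS_noninj n hβ
    rw [h0, map_zero, map_zero, map_zero, mul_zero, sub_zero]
    exact memLocalIdeal_zero

/-- the span of the unipotent Schur functions -/
noncomputable def ZU (Q : ℤ) (M : ℕ) [NeZero M] (m n : ℕ) : AddSubgroup (RS M) :=
  AddSubgroup.closure {x | ∃ β : Fin m → ℕ, ∑ i, β i = n + ∑ i : Fin m, (i : ℕ) ∧ x = S0 Q M n β}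

theorem FN_mem (hQ : IsUnit (Q : ZMod M)) (hbij : ∀ (n m : ℕ) (hn : n ≤ N), n ≤ m → (R n hn).Bij m)
    (h𝔐 : IsPModular p 𝔐) {m n : ℕ} (hn : n ≤ N) (hm : n ≤ m) {x : RS M} (hx : x ∈ ZU Q M m n) :
    MemLocalRing 𝔐 (FN R 𝔐 n hn x) := by
  have hp : p.Prime := h𝔐.1
  have : Fact p.Prime := ⟨hp⟩
  have := isPrime_of_isPModular h𝔐
  induction hx using AddSubgroup.closure_induction with
  | mem x hx =>
    obtain ⟨β, hs, rfl⟩ := hx
    by_cases hβ : Function.Injective β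
    · obtain ⟨χ, s, hs⟩ := exists_irr hQ hbij hn hm hs hβ
      rw [FN_apply, hs, map_smul, FB_irr h𝔐, smul_eq_mul]
      refine memLocalRing_mul (memLocalRing_intCast _) ?_
      split_ifs
      · rw [irr_one_eq_charDegree χ.2]
        exact memLocalRing_natCast _
      · exact memLocalRing_zero
    · have h0 : S0 Q M n β = 0 := SS_noninj n hβ
      rw [h0, map_zero]
      exact memLocalRing_zero
  | zero => rw [map_zero]; exact memLocalRing_zero
  | add x y _ _ hx hy => rw [map_add]; exact memLocalRing_add hx hy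
  | neg x _ hx => rw [map_neg]; exact memLocalRing_neg hx

theorem Dv_S0 (hQ : IsUnit (Q : ZMod M)) {e m n : ℕ} (he : 0 < e) (hen : e ≤ n) (β : Fin m → ℕ) :
    Dv Q M (e, 0) (S0 Q M n β) = ∑ j, if e ≤ β j then S0 Q M (n - e) (dn β j e) else 0 := by
  refine D_SS _ he (fun s hs => ?_) hen β
  have h1 := DP_Pw hQ zero_mem_repsZ zero_mem_repsZ (r := e) s hs
  rw [DP, perZ_zero', mul_one] at h1
  rw [h1]
  simp

theorem Dv_mem (hQ : IsUnit (Q : ZMod M)) {e m n : ℕ} (he : 0 < e) (hen : e ≤ n) {x : RS M} (hx : x ∈ ZU Q M m n) :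
    Dv Q M (e, 0) x ∈ ZU Q M m (n - e) := by
  induction hx using AddSubgroup.closure_induction with
  | mem x hx =>
    obtain ⟨β, hs, rfl⟩ := hx
    rw [Dv_S0 hQ he hen]
    refine AddSubgroup.sum_mem _ fun j _ => ?_
    split_ifs with hj
    · refine AddSubgroup.subset_closure ⟨_, ?_, rfl⟩
      have := sum_dn β j hj
      omega
    · exact AddSubgroup.zero_mem _
  | zero => rw [map_zero]; exact AddSubgroup.zero_mem _
  | add x y _ _ hx hy => rw [map_add]; exact AddSubgroup.add_mem _ hx hy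
  | neg x _ hx => rw [map_neg]; exact AddSubgroup.neg_mem _ hx

theorem Dv_row (hQ : IsUnit (Q : ZMod M)) {e m n : ℕ} (he : 0 < e) (hen : e ≤ n) (hm : 0 < m) :
    Dv Q M (e, 0) (S0 Q M n (row m n)) = S0 Q M (n - e) (row m (n - e)) := by
  rw [Dv_S0 hQ he hen, Finset.sum_eq_single (⟨m - 1, by omega⟩ : Fin m)]
  · rw [if_pos, dn_row_last hm hen]
    rw [row, if_pos (by simp only; omega)]
    omega
  · intro j _ hj
    split_ifs with h
    · exact SS_noninj _ (dn_row_not he (fun h1 => hj (Fin.ext (by simp only; omega))) h)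
    · rfl
  · intro h
    exact absurd (Finset.mem_univ _) h

theorem FN_row (h𝔐 : IsPModular p 𝔐) {n m : ℕ} (hn : n ≤ N)
    (htriv : (R n hn).om (S0 Q M n (row m n)) = fun _ => 1) : FN R 𝔐 n hn (S0 Q M n (row m n)) = 1 := by
  have hp : p.Prime := h𝔐.1
  have : Fact p.Prime := ⟨hp⟩
  have := isPrime_of_isPModular h𝔐
  rw [FN_apply, htriv]
  have h := FB_irr h𝔐 (⟨fun _ => 1, isIrrCharacter_one⟩ : IrrCharacter (G n))
  rw [if_pos one_mem_principalBlock] at h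
  exact h

open MvPolynomial in
/-- **(H2)** -/
theorem FN_rec (hQ : IsUnit (Q : ZMod M)) (hbij : ∀ (n m : ℕ) (hn : n ≤ N), n ≤ m → (R n hn).Bij m)
    (hgeo : Geo R) (h𝔐 : IsPModular p 𝔐) (he : 0 < orderOf (Q : ZMod p))
    (htriv : ∀ (n m : ℕ) (hn : n ≤ N), 0 < m → (R n hn).om (S0 Q M n (row m n)) = fun _ => 1)
    {m n l : ℕ} (hn : n ≤ N) (hl : l ≤ N) (hnl : l + orderOf (Q : ZMod p) = n) (hm : n ≤ m) {x : RS M}
    (hx : x ∈ ZU Q M m n) :
    MemLocalIdeal 𝔐 (FN R 𝔐 n hn x - FN R 𝔐 l hl (Dv Q M (orderOf (Q : ZMod p), 0) x)) := by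
  have hp : p.Prime := h𝔐.1
  have : Fact p.Prime := ⟨hp⟩
  have := isPrime_of_isPModular h𝔐
  obtain ⟨e, hee⟩ : ∃ e, e = orderOf (Q : ZMod p) := ⟨_, rfl⟩
  obtain ⟨κ, hκ⟩ := exists_kap hQ hbij hgeo h𝔐 he hn hl hnl
  rw [← hee] at hκ he hnl ⊢
  have hen : e ≤ n := by omega
  have hle : n - e = l := by omega
  have he0 : (e : ℂ) ≠ 0 := by exact_mod_cast he.ne'
  have hzz : ∀ y : RS M, Dv Q M (e, 0) y = (e : ℂ) • pderiv (e, 0) y := by
    intro y
    have h1 := zz_Pw (c := (0 : ZMod M)) hQ e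
    rw [perZ_zero', mul_one] at h1
    rw [Dv_apply, h1]
  have hk : ∀ y : RS M, κ * FN R 𝔐 l hl (pderiv (e, 0) y) = κ / e * FN R 𝔐 l hl (Dv Q M (e, 0) y) := by
    intro y
    rw [hzz, map_smul, smul_eq_mul]
    field_simp
  have h1 : MemLocalIdeal 𝔐 (κ / e - 1) := by
    have h2 := hκ (m := n + 1) (Nat.le_succ n) (row (n + 1) n) (sum_row (Nat.succ_pos n) n)
    rw [hk, Dv_row hQ he hen (Nat.succ_pos n), FN_row h𝔐 hn (htriv _ _ hn (Nat.succ_pos n))] at h2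
    subst hle
    rw [FN_row h𝔐 hl (htriv _ _ hl (Nat.succ_pos n)), mul_one] at h2
    exact memLocalIdeal_sub_comm h2
  induction hx using AddSubgroup.closure_induction with
  | mem x hx =>
    have h3 : MemLocalRing 𝔐 (FN R 𝔐 l hl (Dv Q M (e, 0) x)) := by
      have h4 := Dv_mem hQ he hen (m := m) (n := n) (AddSubgroup.subset_closure hx)
      subst hle
      exact FN_mem hQ hbij h𝔐 hl (by omega) h4
    obtain ⟨β, hs, rfl⟩ := hx
    have h5 := hκ hm β hs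
    rw [hk] at h5
    have h6 := memLocalIdeal_add h5 (memLocalIdeal_mul_right h1 h3)
    have h7 : FN R 𝔐 n hn (S0 Q M n β) - κ / e * FN R 𝔐 l hl (Dv Q M (e, 0) (S0 Q M n β)) +
        (κ / e - 1) * FN R 𝔐 l hl (Dv Q M (e, 0) (S0 Q M n β)) =
        FN R 𝔐 n hn (S0 Q M n β) - FN R 𝔐 l hl (Dv Q M (e, 0) (S0 Q M n β)) := by ring
    rwa [h7] at h6
  | zero => rw [map_zero, map_zero, map_zero, sub_zero]; exact memLocalIdeal_zero
  | add x y _ _ hx hy =>
    rw [map_add, map_add, map_add, add_sub_add_comm]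
    exact memLocalIdeal_add hx hy
  | neg x _ hx =>
    rw [map_neg, map_neg, map_neg, neg_sub_neg, ← neg_sub]
    exact memLocalIdeal_neg hx

/-- the members -/
theorem mem_of_FN (h𝔐 : IsPModular p 𝔐) {m n : ℕ} (hn : n ≤ N) {χ : IrrCharacter (G n)} {t : LabZ Q M m n}
    (ht : (R n hn).IsLb χ t) (h : ¬ MemLocalIdeal 𝔐 (FN R 𝔐 n hn (SchP Q M t.t))) :
    χ ∈ principalBlock 𝔐 (G n) ∧ ¬ p ∣ charDegree (χ : G n → ℂ) := by
  classical
  have hp : p.Prime := h𝔐.1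
  have : Fact p.Prime := ⟨hp⟩
  have := isPrime_of_isPModular h𝔐
  obtain ⟨s, hs⟩ := ht
  rw [FN_apply, hs, map_smul, FB_irr h𝔐, smul_eq_mul] at h
  by_cases hχ : χ ∈ principalBlock 𝔐 (G n)
  · refine ⟨hχ, fun hd => h ?_⟩
    rw [if_pos hχ, irr_one_eq_charDegree χ.2]
    exact memLocalIdeal_mul_left (memLocalRing_intCast _) ((memLocalIdeal_natCast_iff h𝔐 _).2 hd)
  · exfalso
    apply h
    rw [if_neg hχ, mul_zero]
    exact memLocalIdeal_zero

end chain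

end Cfsg.Agent.H794.XZ
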