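import Cfsg.Agent.H623.GLn.D4A
import Cfsg.Agent.H76.GLB.ProdBlk
import Cfsg.Agent.Blocks.PrincipalSection
import Cfsg.Agent.S0907

/-!
# S4791 + S4927, label route (helper794): the functional of the principal block

* `rho M G` : the character `∑ χ(1) χ` of the principal block;
* `FB p M G f` : the inner product of the `p`-regular part of `f` with `rho M G`;
* `FB_irr` : the value at an irreducible character is its degree if it lies in the principal block and zero otherwise;
* `FB_section` : the value at `c ↦ χ (u c)` on the centralizer of a `p`-element `u` (second and third main theorem);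
* `rho_prod` : direct products.
-/

set_option autoImplicit false

open Cfsg
open scoped ComplexConjugate

namespace Cfsg.Agent.H794.XZ

open Cfsg.Agent.Blocks Cfsg.Agent.Blocks.Basic Cfsg.Agent.Characters Cfsg.Agent.H76.GLB Cfsg.Agent.H466.Sl
open Cfsg.Agent.Blocks.PrincipalSection Cfsg.Agent.Blocks.Local Cfsg.Agent.H624.Sl

universe u v w

/-- the character of the principal block -/
noncomputable def rho (M : Ideal AlgInt) (G : Type u) [Group G] : G → ℂ :=
  fun g => ∑ᶠ χ ∈ principalBlock M G, (χ : G → ℂ) 1 * (χ : G → ℂ) g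

section rho

variable {p : ℕ} {M : Ideal AlgInt} {G : Type u} [Group G] [Finite G]

omit [Finite G] in
theorem conj_one (χ : IrrCharacter G) : conj ((χ : G → ℂ) 1) = (χ : G → ℂ) 1 := by
  obtain ⟨n, ρ, hρ, h⟩ := χ.2
  have h1 : (χ : G → ℂ) 1 = (n : ℂ) := by
    rw [← h, Representation.char_one, Module.finrank_fin_fun]
  rw [h1, Complex.conj_natCast]

omit [Finite G] in
open Classical in
theorem rho_eq [Fintype (IrrCharacter G)] (g : G) :
    rho M G g = ∑ χ : IrrCharacter G with χ ∈ principalBlock M G, (χ : G → ℂ) 1 * (χ : G → ℂ) g := by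
  rw [rho, finsum_mem_eq_toFinset_sum]
  refine Finset.sum_congr ?_ fun _ _ => rfl
  ext χ
  simp

theorem conj_rho_eq_zero [Fact p.Prime] (hM : IsPModular p M) {g : G} (hg : p ∣ orderOf g) : conj (rho M G g) = 0 := by
  classical
  have : Finite (IrrCharacter G) := Core.finite_irr
  have := Fintype.ofFinite (IrrCharacter G)
  have h := S0907.result p M hM (principalBlock M G) isPBlock_principalBlock 1 g
    (by rw [orderOf_one]; exact (Fact.out : p.Prime).one_lt.ne' ∘ Nat.dvd_one.1) hg
  rw [finsum_mem_eq_toFinset_sum] at h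
  rw [rho_eq, map_sum, ← h]
  refine Finset.sum_congr ?_ fun χ _ => ?_
  · ext χ
    simp
  · rw [map_mul, conj_one]

/-- the functional -/
noncomputable def FB (p : ℕ) (M : Ideal AlgInt) (G : Type u) [Group G] [Finite G] : (G → ℂ) →ₗ[ℂ] ℂ where
  toFun f := haveI := Fintype.ofFinite G; classInner (pRegularPart p f) (rho M G)
  map_add' f f' := by
    let := Fintype.ofFinite G
    rw [← Cfsg.Agent.H646.RegInner.regMap_apply, map_add, Core.classInner_add_left]
    rfl
  map_smul' c f := by
    let := Fintype.ofFinite G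
    rw [← Cfsg.Agent.H646.RegInner.regMap_apply, map_smul, Core.classInner_smul_left]
    rfl

theorem FB_apply [i : Fintype G] (f : G → ℂ) : FB p M G f = classInner (pRegularPart p f) (rho M G) := by
  have h : Fintype.ofFinite G = i := Subsingleton.elim _ _
  subst h
  rfl

theorem FB_congr {f f' : G → ℂ} (h : ∀ g, ¬ p ∣ orderOf g → f g = f' g) : FB p M G f = FB p M G f' := by
  have := Fintype.ofFinite G
  rw [FB_apply, FB_apply]
  congr 1
  funext g
  unfold pRegularPart
  by_cases hg : IsPRegular p g
  · rw [if_pos hg, if_pos hg, h g hg]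
  · rw [if_neg hg, if_neg hg]

open Classical in
theorem FB_eq_sum [Fact p.Prime] (hM : IsPModular p M) [Fintype G] [Fintype (IrrCharacter G)] (f : G → ℂ) :
    FB p M G f = ∑ χ : IrrCharacter G with χ ∈ principalBlock M G, classInner f (χ : G → ℂ) * (χ : G → ℂ) 1 := by
  rw [FB_apply, Blocks.Basic.classInner_def]
  have h1 : ∀ g : G, pRegularPart p f g * conj (rho M G g) = f g * conj (rho M G g) := by
    intro g
    by_cases hg : p ∣ orderOf g
    · rw [conj_rho_eq_zero hM hg, mul_zero, mul_zero]
    · congr 1
      exact if_pos hg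
  simp only [h1]
  have h2 : ∀ g : G, f g * conj (rho M G g) =
      ∑ χ : IrrCharacter G with χ ∈ principalBlock M G, f g * conj ((χ : G → ℂ) g) * (χ : G → ℂ) 1 := by
    intro g
    rw [rho_eq, map_sum, Finset.mul_sum]
    refine Finset.sum_congr rfl fun χ _ => ?_
    rw [map_mul, conj_one]
    ring
  simp only [h2]
  rw [Finset.sum_comm, Finset.mul_sum]
  refine Finset.sum_congr rfl fun χ _ => ?_
  rw [Blocks.Basic.classInner_def, ← Finset.sum_mul, mul_assoc]

open Classical in
/-- the value at an irreducible character -/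
theorem FB_irr [Fact p.Prime] (hM : IsPModular p M) (χ : IrrCharacter G) :
    FB p M G (χ : G → ℂ) = if χ ∈ principalBlock M G then (χ : G → ℂ) 1 else 0 := by
  have := Fintype.ofFinite G
  have : Finite (IrrCharacter G) := Core.finite_irr
  have := Fintype.ofFinite (IrrCharacter G)
  rw [FB_eq_sum hM]
  have h1 : ∀ ψ : IrrCharacter G, classInner (χ : G → ℂ) (ψ : G → ℂ) * (ψ : G → ℂ) 1 =
      if ψ = χ then (χ : G → ℂ) 1 else 0 := by
    intro ψ
    by_cases h : ψ = χ
    · rw [if_pos h, h, Core.classInner_irr_self χ.2, one_mul]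
    · rw [if_neg h, Core.classInner_irr_ne χ.2 ψ.2 (fun h' => h (Subtype.ext h').symm), zero_mul]
  simp only [h1]
  rw [Finset.sum_ite_eq' _ χ]
  simp only [Finset.mem_filter, Finset.mem_univ, true_and]

open Classical in
/-- the value at the translate of an irreducible character on the centralizer of a `p`-element -/
theorem FB_section [Fact p.Prime] (hM : IsPModular p M) {u : G} (hu : ∃ k : ℕ, orderOf u = p ^ k) {H : Subgroup G}
    (hH : H = Subgroup.centralizer ({u} : Set G)) (χ : IrrCharacter G) :
    FB p M H (fun c : H => (χ : G → ℂ) (u * (c : G))) = if χ ∈ principalBlock M G then (χ : G → ℂ) u else 0 := by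
  have := Fintype.ofFinite G
  have := Fintype.ofFinite H
  have : Finite (IrrCharacter H) := Core.finite_irr
  have := Fintype.ofFinite (IrrCharacter H)
  rw [FB_eq_sum hM, CentralizerSum.sum_components hM u hu hH isPBlock_principalBlock
    (mem_principalBlock_iff_induced hM u hu hH) 1
    (by rw [orderOf_one]; exact (Fact.out : p.Prime).one_lt.ne' ∘ Nat.dvd_one.1) χ, Subgroup.coe_one, mul_one]

end rho

section prod

variable {p : ℕ} {M : Ideal AlgInt} {X₁ : Type u} {X₂ : Type v} {G : Type w} [Group X₁] [Finite X₁] [Group X₂] [Finite X₂]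
  [Group G] [Finite G] {H : Subgroup G} {j : X₁ × X₂ →* G}

theorem principalBlock_prod [Fact p.Prime] (hM : IsPModular p M) (hj : Function.Injective j) (hr : j.range = H) :
    principalBlock M H = outer H (onto j hj H hr) '' (principalBlock M X₁ ×ˢ principalBlock M X₂) := by
  have h := prodBlk_blockOf hM hj hr (⟨fun _ => 1, isIrrCharacter_one⟩ : IrrCharacter X₁)
    (⟨fun _ => 1, isIrrCharacter_one⟩ : IrrCharacter X₂) (⟨fun _ => 1, isIrrCharacter_one⟩ : IrrCharacter H)
    (fun x h _ => (mul_one (1 : ℂ)).symm)
  rw [← prodBlk_eq]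
  exact h.symm

theorem rho_prod [Fact p.Prime] (hM : IsPModular p M) (hj : Function.Injective j) (hr : j.range = H) (x : X₁ × X₂) (h : H)
    (hx : j x = h) : rho M H h = rho M X₁ x.1 * rho M X₂ x.2 := by
  classical
  have hh : h = onto j hj H hr x := Subtype.ext (hx.symm.trans (coe_onto j hj H hr x).symm)
  have : Finite (IrrCharacter X₁) := Core.finite_irr
  have : Finite (IrrCharacter X₂) := Core.finite_irr
  have := Fintype.ofFinite (IrrCharacter X₁)
  have := Fintype.ofFinite (IrrCharacter X₂)
  rw [rho, principalBlock_prod hM hj hr, finsum_mem_image (outer_injective H _).injOn, rho_eq, rho_eq,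
    Finset.sum_mul_sum, ← Finset.sum_product', finsum_mem_eq_toFinset_sum]
  refine Finset.sum_congr ?_ fun χ _ => ?_
  · ext χ
    simp
  · have h1 := outer_apply H (onto j hj H hr) χ x
    have h2 := outer_apply H (onto j hj H hr) χ 1
    rw [map_one] at h2
    rw [hh, h1, h2]
    change (χ.1 : X₁ → ℂ) 1 * (χ.2 : X₂ → ℂ) 1 * _ = _
    ring

end prod

end Cfsg.Agent.H794.XZ
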