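import Cfsg.Agent.H794.XZ.Rec
import Cfsg.Agent.H623.GU.Geo
import Cfsg.Agent.H531.XZ.Alm
import Cfsg.Agent.H674.XZ.Base

/-!
# S4791 + S4927, label route (helper794): families of labels give members of `X₀`

* `le_x0_of_family` : an injective family of labels with nonzero values of the functional, supported by labels of order
  dividing `p`, bounds `x0` from below.
-/

set_option autoImplicit false

open Cfsg
open scoped ComplexConjugate TensorProduct

namespace Cfsg.Agent.H794.XZ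

open Cfsg.Agent.Blocks Cfsg.Agent.Blocks.Basic Cfsg.Agent.Characters
open Cfsg.Agent.Blocks.Local
open Cfsg.Agent.H577.GLB.Std
open Cfsg.Agent.H623.GU
open Cfsg.Agent.H112.GLB Cfsg.Agent.H615.GU
open Cfsg.Agent.H674.XZ

universe u v w

section tow

variable {K : Type v} [Field K] {θ : K →*₀ ℂ} {Q : ℤ} {M : ℕ} [NeZero M] {N p : ℕ} {G : ℕ → Type u} [∀ n, Group (G n)]
    [∀ n, Finite (G n)] {𝔐 : Ideal AlgInt}

/-- an injective family of labels of members of `X₀` -/
theorem le_x0_of_family (h𝔐 : IsPModular p 𝔐) (ctx : CtxQ θ Q M N) (t : Tow θ Q M N p G) {m n r : ℕ} (hn : n ≤ N)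
    (hm : n ≤ m) (T : Fin r → LabZ Q M m n) (hT : Function.Injective T)
    (hJ : ∀ i, ¬ MemLocalIdeal 𝔐 (FN t.R 𝔐 n hn (SchP Q M (T i).t)))
    (hv : ∀ i c, p • c ≠ 0 → bsz ((T i).t c) = 0) : r ≤ x0 p 𝔐 (G n) := by
  have hp : p.Prime := h𝔐.1
  have hbij := t.bij n m hn hm
  have h1 : ∀ i, ∃ χ : IrrCharacter (G n), (t.R n hn).IsLb χ (T i) := fun i => (hbij.2 (T i)).exists
  choose χ hχ using h1
  have : Finite (IrrCharacter (G n)) := Core.finite_irr
  have h2 : ∀ i, Mem0 p 𝔐 (χ i) := fun i =>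
    ⟨(mem_of_FN h𝔐 hn (hχ i) (hJ i)).1, (mem_of_FN h𝔐 hn (hχ i) (hJ i)).2, H531.XZ.alm_of_lb hp ctx hn (hχ i) (hv i)⟩
  have h3 : Function.Injective (fun i : Fin r => (⟨χ i, h2 i⟩ : {χ : IrrCharacter (G n) // Mem0 p 𝔐 χ})) := by
    intro i j hij
    have h4 : χ i = χ j := congrArg Subtype.val hij
    exact hT ((hbij.1 (χ i)).unique (hχ i) (h4 ▸ hχ j))
  have h5 := Nat.card_le_card_of_injective _ h3
  rwa [Nat.card_fin] at h5

end tow

end Cfsg.Agent.H794.XZ
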